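import Mathlib
import Groth.Agent.Lib.Helper4.DimIneq1
import Groth.Agent.Lib.Helper4.DimFT1
import Groth.Agent.Lib.Helper4.DimFT2
import Groth.Agent.Lib.Helper7.FibTrdeg.Main
import Groth.Agent.Lib.Helper7.FibTrdeg.ZMT2
import Groth.Agent.Lib.Helper7.FibTrdeg.GoingDown
import Groth.Agent.Lib.Helper7.FibTrdeg.Horiz

/-!
# Horizontal components of a principal divisor: chart version

Let `A₀ → B₀` be of finite type, `𝔑 ≤ 𝔔₁` primes of `B₀`, `𝔔₁` minimal over `𝔭 B₀ + (g)` and lying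
over `𝔭`. If the residual transcendence degree of `𝔔₁` over `𝔭` is smaller than that of `𝔑` over
its contraction `𝔫`, then there is a prime `𝔑 ≤ 𝔔 ≤ 𝔔₁` containing `g` and lying over `𝔫`.
-/

set_option linter.style.haveILetI false
set_option linter.unusedVariables false
set_option linter.unusedSectionVars false
set_option autoImplicit false
set_option backward.isDefEq.respectTransparency.types false
set_option synthInstance.maxHeartbeats 400000
set_option maxHeartbeats 1600000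

universe u

namespace Groth.Agent.Helper7.Vert

open IsLocalRing Groth.Agent.Lib.Helper4 Groth.Agent.Helper7.FibTrdeg

/-- transcendence degree is insensitive to algebraic enlargements of both rings -/
theorem trdeg_eq_of_algebraic (D D' E E' : Type u) [CommRing D] [IsDomain D] [CommRing D']
    [IsDomain D'] [CommRing E] [IsDomain E] [CommRing E'] [IsDomain E']
    [Algebra D D'] [FaithfulSMul D D'] [Algebra D E] [FaithfulSMul D E] [Algebra.IsAlgebraic D E]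
    [Algebra D' E'] [FaithfulSMul D' E'] [Algebra.IsAlgebraic D' E']
    [Algebra E E'] [FaithfulSMul E E'] [Algebra D E'] [IsScalarTower D D' E']
    [IsScalarTower D E E'] :
    Algebra.trdeg E E' = Algebra.trdeg D D' := by
  have h1 := trdeg_add_eq D D' (A := E')
  rw [_root_.trdeg_eq_zero (R := D') (A := E'), add_zero] at h1
  have h2 := trdeg_add_eq D E (A := E')
  rw [_root_.trdeg_eq_zero (R := D) (A := E), zero_add] at h2
  rw [h1, h2]

section Core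

variable {A S B : Type u} [CommRing A] [IsLocalRing A] [IsDomain A]
    [CommRing S] [IsDomain S] [Algebra A S] [Algebra.FiniteType A S] [FaithfulSMul A S]
    [CommRing B] [IsDomain B] [IsLocalRing B] [Algebra A B] [IsLocalHom (algebraMap A B)]
    [Algebra S B] [IsScalarTower A S B] [FaithfulSMul S B]

local notation "JJ" => Ideal.map (algebraMap A S) (maximalIdeal A)
local notation "mkJ" => Ideal.Quotient.mk (Ideal.map (algebraMap A S) (maximalIdeal A))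

theorem horiz_core_local (𝔓 : Ideal S) [𝔓.IsPrime] [IsLocalization.AtPrime B 𝔓] (g₀ : S)
    (hmin : 𝔓 ∈ (JJ ⊔ Ideal.span {g₀}).minimalPrimes)
    (e N : ℕ) (he : Algebra.trdeg (ResidueField A) (ResidueField B) = e)
    (hN : Algebra.trdeg A B = N) (heN : e + 1 ≤ N) (a : A)
    (ha : algebraMap A B a ∈ Ideal.span {algebraMap S B g₀}) : a = 0 := by
  classical
  have hJ : JJ ≤ 𝔓 := le_sup_left.trans hmin.1.2
  have hg𝔓 : g₀ ∈ 𝔓 := hmin.1.2 (Ideal.mem_sup_right (Ideal.mem_span_singleton_self g₀))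
  letI instAlgκF : Algebra (ResidueField A) (S ⧸ JJ) :=
    Ideal.Quotient.algebraQuotientMapQuotient
  haveI instTower : IsScalarTower A (ResidueField A) (S ⧸ JJ) :=
    Ideal.Quotient.tower_quotient_map_quotient
  haveI : Algebra.FiniteType A (S ⧸ JJ) :=
    Algebra.FiniteType.of_surjective (Ideal.Quotient.mkₐ A _) (Ideal.Quotient.mkₐ_surjective A _)
  haveI instFT : Algebra.FiniteType (ResidueField A) (S ⧸ JJ) :=
    Algebra.FiniteType.of_restrictScalars_finiteType A _ _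
  haveI hnoeth : IsNoetherianRing (S ⧸ JJ) :=
    Algebra.FiniteType.isNoetherianRing (ResidueField A) _
  haveI h𝔓' : (𝔓.map mkJ).IsPrime :=
    Ideal.map_isPrime_of_surjective Ideal.Quotient.mk_surjective (by rw [Ideal.mk_ker]; exact hJ)
  have hπp : Function.Surjective ((Ideal.Quotient.mkₐ A (𝔓.map mkJ)).comp
      (Ideal.Quotient.mkₐ A JJ)) :=
    (Ideal.Quotient.mkₐ_surjective A _).comp (Ideal.Quotient.mkₐ_surjective A JJ)
  have h𝔓0 : ∀ x, x ∈ 𝔓 ↔ ((Ideal.Quotient.mkₐ A (𝔓.map mkJ)).comp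
      (Ideal.Quotient.mkₐ A JJ)) x = 0 := by
    intro x
    rw [← Ideal.mem_quotient_iff_mem hJ]
    exact Ideal.Quotient.eq_zero_iff_mem.symm
  have hE := trdeg_residueField_eq (B := B)
    ((Ideal.Quotient.mkₐ A (𝔓.map mkJ)).comp (Ideal.Quotient.mkₐ A JJ)) hπp 𝔓 h𝔓0
  -- transcendence degree of `S`
  haveI : Algebra.IsAlgebraic S B := IsLocalization.isAlgebraic B 𝔓.primeCompl
  have hadd := trdeg_add_eq A S (A := B)
  rw [trdeg_eq_zero (R := S) (A := B), add_zero] at hadd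
  have htrS : Algebra.trdeg A S = ((N : ℕ) : Cardinal) := hadd.trans hN
  -- the lifts
  obtain ⟨s₁, t, hcard, halg⟩ := exists_halg _ hπp 𝔓 h𝔓0
  have hcard' : Cardinal.mk s₁ = (e : Cardinal) := hcard.trans (hE.symm.trans he)
  haveI : Finite s₁ := Cardinal.lt_aleph0_iff_finite.mp
    (by rw [hcard']; exact Cardinal.natCast_lt_aleph0)
  obtain ⟨x, hx⟩ : ∃ x : Option s₁ → S, x = fun o => o.elim g₀ t := ⟨_, rfl⟩
  have hx_none : x none = g₀ := congrFun hx none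
  have hx_some : ∀ i, x (some i) = t i := fun i => congrFun hx (some i)
  have hspan : Ideal.span ((algebraMap A S '' (maximalIdeal A : Set A)) ∪ {g₀}) =
      JJ ⊔ Ideal.span {g₀} := by
    rw [Ideal.span_union]
    rfl
  have hnoethI : IsNoetherianRing
      (S ⧸ Ideal.span ((algebraMap A S '' (maximalIdeal A : Set A)) ∪ {g₀})) := by
    have hle : JJ ≤ Ideal.span ((algebraMap A S '' (maximalIdeal A : Set A)) ∪ {g₀}) := by
      rw [hspan]
      exact le_sup_left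
    exact isNoetherianRing_of_surjective (S ⧸ JJ) _ (Ideal.Quotient.factor hle)
      (Ideal.Quotient.factor_surjective hle)
  have h𝔓min' : 𝔓 ∈
      (Ideal.span ((algebraMap A S '' (maximalIdeal A : Set A)) ∪ {g₀})).minimalPrimes := by
    rw [hspan]
    exact hmin
  have hgens : ∀ s ∈ (algebraMap A S '' (maximalIdeal A : Set A)) ∪ {g₀},
      s = g₀ ∨ s ∈ Set.range (algebraMap A S) := by
    rintro s (⟨c, _, rfl⟩ | hs)
    · exact Or.inr ⟨c, rfl⟩
    · exact Or.inl (Set.mem_singleton_iff.mp hs)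
  have htx : Algebra.adjoin A (Set.range t) ≤ Algebra.adjoin A (Set.range x) := by
    apply Algebra.adjoin_mono
    rintro _ ⟨i, rfl⟩
    exact ⟨some i, hx_some i⟩
  have halgR₀ : ∀ b ∉ 𝔓, ∃ ρ ∈ Algebra.adjoin A (Set.range t), ρ ∉ 𝔓 ∧
      ρ ∈ 𝔓 ⊔ Ideal.span {b} := by
    intro b hb
    obtain ⟨Q, h1, h2⟩ := halg b hb
    refine ⟨MvPolynomial.aeval t Q, ?_, h1, h2⟩
    rw [Algebra.adjoin_range_eq_range_aeval]
    exact (AlgHom.mem_range _).mpr ⟨Q, rfl⟩
  haveI halgS : Algebra.IsAlgebraic (Algebra.adjoin A (Set.range x)) S := by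
    refine isAlgebraic_adjoin_of_minimal (Set.range x) _ ?_ hnoethI 𝔓 h𝔓min' ?_
    · intro s hs
      rcases hgens s hs with h1 | h1
      · exact Or.inl ⟨none, by rw [hx_none, h1]⟩
      · exact Or.inr h1
    · intro b hb
      obtain ⟨ρ, hρ, h1, h2⟩ := halgR₀ b hb
      exact ⟨ρ, htx hρ, h1, h2⟩
  have hle : Cardinal.mk (Option s₁) ≤ Algebra.trdeg A S := by
    rw [Cardinal.mk_option, hcard', htrS]
    exact_mod_cast heN
  have hxtb := Algebra.IsAlgebraic.isTranscendenceBasis_of_le_trdeg_of_finite A x hle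
  have hxind : AlgebraicIndependent A (fun o : Option s₁ => o.elim g₀ t) := hx ▸ hxtb.1
  obtain ⟨htind, htr⟩ := AlgebraicIndependent.option_iff.mp hxind
  -- the final step
  by_contra ha0
  rw [Ideal.mem_span_singleton'] at ha
  obtain ⟨y, hy⟩ := ha
  obtain ⟨⟨h, σ⟩, hhσ⟩ := IsLocalization.surj 𝔓.primeCompl y
  have hhσ' : y * algebraMap S B (σ : S) = algebraMap S B h := hhσ
  have heqS : (σ : S) * algebraMap A S a = g₀ * h := by
    apply FaithfulSMul.algebraMap_injective S B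
    rw [map_mul, map_mul, ← IsScalarTower.algebraMap_apply A S B, ← hy, ← hhσ']
    ring
  have haS : algebraMap A S a ≠ 0 := by
    intro h0
    apply ha0
    apply FaithfulSMul.algebraMap_injective A S
    rw [h0, map_zero]
  have hσ𝔔 := final_step (Algebra.adjoin A (Set.range t)) g₀ htr _ hgens hnoethI 𝔓 h𝔓min'
    hg𝔓 halgR₀ (σ : S) h a haS heqS
  exact σ.2 hσ𝔔

end Core

/-- Local version: `A → B` an injective local homomorphism of local domains, essentially of finite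
type, `𝔪_B` minimal over `𝔪_A B + (g)`, and `trdeg κ(A) κ(B) + 1 ≤ trdeg A B`. Then `A → B / g B`
is injective. -/
theorem horiz_local {A B : Type u} [CommRing A] [CommRing B] [IsDomain A] [IsDomain B]
    [IsLocalRing A] [IsLocalRing B] [Algebra A B] [IsLocalHom (algebraMap A B)]
    [FaithfulSMul A B] [Algebra.EssFiniteType A B]
    (g : B)
    (hmin : maximalIdeal B ∈
      (Ideal.map (algebraMap A B) (maximalIdeal A) ⊔ Ideal.span {g}).minimalPrimes)
    (e N : ℕ) (he : Algebra.trdeg (ResidueField A) (ResidueField B) = e)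
    (hN : Algebra.trdeg A B = N) (heN : e + 1 ≤ N) :
    Function.Injective (algebraMap A (B ⧸ Ideal.span {g})) := by
  obtain ⟨S₀, M, hft, hloc⟩ := (Algebra.essFiniteType_iff_exists_subalgebra A B).mp
    (inferInstance : Algebra.EssFiniteType A B)
  haveI : FaithfulSMul A S₀ := by
    rw [faithfulSMul_iff_algebraMap_injective]
    intro x y hxy
    apply FaithfulSMul.algebraMap_injective A B
    have := congrArg (algebraMap S₀ B) hxy
    rwa [← IsScalarTower.algebraMap_apply, ← IsScalarTower.algebraMap_apply] at this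
  haveI : FaithfulSMul S₀ B :=
    (faithfulSMul_iff_algebraMap_injective _ _).mpr Subtype.val_injective
  haveI h𝔓 : ((maximalIdeal B).comap (algebraMap S₀ B)).IsPrime := Ideal.comap_isPrime _ _
  haveI : IsLocalization.AtPrime B ((maximalIdeal B).comap (algebraMap S₀ B)) := by
    refine IsLocalization.of_le M _ ?_ ?_
    · intro m hm
      show m ∉ (maximalIdeal B).comap (algebraMap S₀ B)
      rw [Ideal.mem_comap]
      intro hmem
      exact (IsLocalRing.mem_maximalIdeal _).mp hmem (IsLocalization.map_units B ⟨m, hm⟩)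
    · intro r hr
      have hnm : algebraMap S₀ B r ∉ maximalIdeal B := fun h => hr (Ideal.mem_comap.mpr h)
      exact IsLocalRing.notMem_maximalIdeal.mp hnm
  obtain ⟨⟨g₀, s⟩, hgs⟩ :=
    IsLocalization.surj ((maximalIdeal B).comap (algebraMap S₀ B)).primeCompl g
  have hgs' : g * algebraMap S₀ B (s : S₀) = algebraMap S₀ B g₀ := hgs
  obtain ⟨u, hu⟩ := IsLocalization.map_units B s
  have hspan : Ideal.span {g} = Ideal.span {algebraMap S₀ B g₀} := by
    rw [← hgs', ← hu]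
    exact (Ideal.span_singleton_mul_right_unit u.isUnit g).symm
  have hmapI : Ideal.map (algebraMap S₀ B)
      (Ideal.map (algebraMap A S₀) (maximalIdeal A) ⊔ Ideal.span {g₀}) =
      Ideal.map (algebraMap A B) (maximalIdeal A) ⊔ Ideal.span {g} := by
    rw [Ideal.map_sup, Ideal.map_map, ← IsScalarTower.algebraMap_eq, Ideal.map_span,
      Set.image_singleton, hspan]
  have hmin' : (maximalIdeal B).comap (algebraMap S₀ B) ∈
      (Ideal.map (algebraMap A S₀) (maximalIdeal A) ⊔ Ideal.span {g₀}).minimalPrimes := by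
    have h1 : maximalIdeal B ∈ (Ideal.map (algebraMap S₀ B)
        (Ideal.map (algebraMap A S₀) (maximalIdeal A) ⊔ Ideal.span {g₀})).minimalPrimes := by
      rw [hmapI]
      exact hmin
    rw [IsLocalization.minimalPrimes_map
      ((maximalIdeal B).comap (algebraMap S₀ B)).primeCompl B] at h1
    exact h1
  rw [injective_iff_map_eq_zero]
  intro a ha
  have h1 : algebraMap A B a ∈ Ideal.span {g} := by
    rw [IsScalarTower.algebraMap_apply A B (B ⧸ Ideal.span {g}), Ideal.Quotient.algebraMap_eq,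
      Ideal.Quotient.eq_zero_iff_mem] at ha
    exact ha
  rw [hspan] at h1
  exact horiz_core_local (S := S₀) ((maximalIdeal B).comap (algebraMap S₀ B)) g₀ hmin' e N he hN
    heN a h1

/-- chart version for domains -/
theorem horiz_chart_dom {A₀ B₀ : Type u} [CommRing A₀] [CommRing B₀] [IsDomain A₀] [IsDomain B₀]
    [Algebra A₀ B₀] [FaithfulSMul A₀ B₀] [Algebra.FiniteType A₀ B₀]
    (𝔭 : Ideal A₀) [𝔭.IsPrime] (g : B₀) (𝔔₁ : Ideal B₀) [𝔔₁.IsPrime] [𝔔₁.LiesOver 𝔭]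
    (hmin : 𝔔₁ ∈ (𝔭.map (algebraMap A₀ B₀) ⊔ Ideal.span {g}).minimalPrimes)
    (e N : ℕ) (he : Algebra.trdeg (A₀ ⧸ 𝔭) (B₀ ⧸ 𝔔₁) = e) (hN : Algebra.trdeg A₀ B₀ = N)
    (heN : e + 1 ≤ N) :
    ∃ 𝔔 : Ideal B₀, 𝔔.IsPrime ∧ 𝔔 ≤ 𝔔₁ ∧ g ∈ 𝔔 ∧ 𝔔.comap (algebraMap A₀ B₀) = ⊥ := by
  letI algAB : Algebra (Localization.AtPrime 𝔭) (Localization.AtPrime 𝔔₁) :=
    Localization.AtPrime.algebraOfLiesOver 𝔭 𝔔₁
  haveI : IsDomain (Localization.AtPrime 𝔭) := IsLocalization.isDomain_of_atPrime _ 𝔭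
  haveI : IsDomain (Localization.AtPrime 𝔔₁) := IsLocalization.isDomain_of_atPrime _ 𝔔₁
  haveI hT1 : IsScalarTower A₀ (Localization.AtPrime 𝔭) (Localization.AtPrime 𝔔₁) := inferInstance
  haveI hT2 : IsScalarTower A₀ B₀ (Localization.AtPrime 𝔔₁) := inferInstance
  haveI hLH : IsLocalHom (algebraMap (Localization.AtPrime 𝔭) (Localization.AtPrime 𝔔₁)) :=
    inferInstance
  have hinjA : Function.Injective (algebraMap A₀ (Localization.AtPrime 𝔭)) :=
    IsLocalization.injective _ 𝔭.primeCompl_le_nonZeroDivisors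
  have hinjB : Function.Injective (algebraMap B₀ (Localization.AtPrime 𝔔₁)) :=
    IsLocalization.injective _ 𝔔₁.primeCompl_le_nonZeroDivisors
  haveI hF1 : FaithfulSMul A₀ (Localization.AtPrime 𝔭) :=
    (faithfulSMul_iff_algebraMap_injective _ _).mpr hinjA
  haveI hF2 : FaithfulSMul B₀ (Localization.AtPrime 𝔔₁) :=
    (faithfulSMul_iff_algebraMap_injective _ _).mpr hinjB
  haveI hF3 : FaithfulSMul A₀ (Localization.AtPrime 𝔔₁) := by
    rw [faithfulSMul_iff_algebraMap_injective, IsScalarTower.algebraMap_eq A₀ B₀]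
    exact hinjB.comp (FaithfulSMul.algebraMap_injective A₀ B₀)
  haveI hF4 : FaithfulSMul (Localization.AtPrime 𝔭) (Localization.AtPrime 𝔔₁) := by
    rw [faithfulSMul_iff_algebraMap_injective, injective_iff_map_eq_zero]
    intro x hx
    obtain ⟨⟨a, s⟩, has⟩ := IsLocalization.surj 𝔭.primeCompl x
    have has' : x * algebraMap A₀ (Localization.AtPrime 𝔭) (s : A₀) =
        algebraMap A₀ (Localization.AtPrime 𝔭) a := has
    have h1 : algebraMap A₀ (Localization.AtPrime 𝔔₁) a = 0 := by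
      rw [IsScalarTower.algebraMap_apply A₀ (Localization.AtPrime 𝔭) (Localization.AtPrime 𝔔₁),
        ← has', map_mul, hx, zero_mul]
    have h2 : a = 0 := by
      apply FaithfulSMul.algebraMap_injective A₀ (Localization.AtPrime 𝔔₁)
      rw [h1, map_zero]
    rw [h2, map_zero] at has'
    have hu := IsLocalization.map_units (Localization.AtPrime 𝔭) s
    exact (hu.mul_left_eq_zero).mp has'
  haveI hE1 : Algebra.EssFiniteType A₀ (Localization.AtPrime 𝔔₁) := inferInstance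
  haveI hE2 : Algebra.EssFiniteType (Localization.AtPrime 𝔭) (Localization.AtPrime 𝔔₁) :=
    Algebra.EssFiniteType.of_comp A₀ _ _
  -- the ideal
  have hmaxA : Ideal.map (algebraMap A₀ (Localization.AtPrime 𝔭)) 𝔭 =
      maximalIdeal (Localization.AtPrime 𝔭) := Localization.AtPrime.map_eq_maximalIdeal
  have hcomp : (algebraMap B₀ (Localization.AtPrime 𝔔₁)).comp (algebraMap A₀ B₀) =
      (algebraMap (Localization.AtPrime 𝔭) (Localization.AtPrime 𝔔₁)).comp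
        (algebraMap A₀ (Localization.AtPrime 𝔭)) := by
    rw [← IsScalarTower.algebraMap_eq A₀ B₀, ← IsScalarTower.algebraMap_eq A₀ (Localization.AtPrime 𝔭)]
  have hmapI : Ideal.map (algebraMap B₀ (Localization.AtPrime 𝔔₁))
      (𝔭.map (algebraMap A₀ B₀) ⊔ Ideal.span {g}) =
      Ideal.map (algebraMap (Localization.AtPrime 𝔭) (Localization.AtPrime 𝔔₁))
        (maximalIdeal (Localization.AtPrime 𝔭)) ⊔
        Ideal.span {algebraMap B₀ (Localization.AtPrime 𝔔₁) g} := by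
    rw [Ideal.map_sup, Ideal.map_map, Ideal.map_span, Set.image_singleton, ← hmaxA, Ideal.map_map,
      hcomp]
  have hminB : maximalIdeal (Localization.AtPrime 𝔔₁) ∈
      (Ideal.map (algebraMap (Localization.AtPrime 𝔭) (Localization.AtPrime 𝔔₁))
        (maximalIdeal (Localization.AtPrime 𝔭)) ⊔
        Ideal.span {algebraMap B₀ (Localization.AtPrime 𝔔₁) g}).minimalPrimes := by
    rw [← hmapI, IsLocalization.minimalPrimes_map 𝔔₁.primeCompl (Localization.AtPrime 𝔔₁)]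
    show Ideal.under B₀ (maximalIdeal (Localization.AtPrime 𝔔₁)) ∈
      (𝔭.map (algebraMap A₀ B₀) ⊔ Ideal.span {g}).minimalPrimes
    rw [Localization.AtPrime.under_maximalIdeal]
    exact hmin
  -- transcendence degrees
  haveI : Algebra.IsAlgebraic A₀ (Localization.AtPrime 𝔭) :=
    IsLocalization.isAlgebraic _ 𝔭.primeCompl
  haveI : Algebra.IsAlgebraic B₀ (Localization.AtPrime 𝔔₁) :=
    IsLocalization.isAlgebraic _ 𝔔₁.primeCompl
  have hNB : Algebra.trdeg (Localization.AtPrime 𝔭) (Localization.AtPrime 𝔔₁) = N :=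
    (trdeg_eq_of_algebraic A₀ B₀ (Localization.AtPrime 𝔭) (Localization.AtPrime 𝔔₁)).trans hN
  have heB : Algebra.trdeg (ResidueField (Localization.AtPrime 𝔭))
      (ResidueField (Localization.AtPrime 𝔔₁)) = e := by
    letI := ((algebraMap (B₀ ⧸ 𝔔₁) 𝔔₁.ResidueField).comp
      (algebraMap (A₀ ⧸ 𝔭) (B₀ ⧸ 𝔔₁))).toAlgebra
    haveI : IsScalarTower (A₀ ⧸ 𝔭) (B₀ ⧸ 𝔔₁) 𝔔₁.ResidueField := .of_algebraMap_eq' rfl
    haveI : IsScalarTower (A₀ ⧸ 𝔭) 𝔭.ResidueField 𝔔₁.ResidueField := by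
      refine .of_algebraMap_eq fun x ↦ ?_
      obtain ⟨x, rfl⟩ := Ideal.Quotient.mk_surjective x
      simp [RingHom.algebraMap_toAlgebra, ← IsScalarTower.algebraMap_apply]
    rw [← he]
    exact DimIneq1.trdeg_fractionRing_rel (A₀ ⧸ 𝔭) (B₀ ⧸ 𝔔₁) 𝔭.ResidueField 𝔔₁.ResidueField
  have hinj := horiz_local (A := Localization.AtPrime 𝔭) (B := Localization.AtPrime 𝔔₁)
    (algebraMap B₀ (Localization.AtPrime 𝔔₁) g) hminB e N heB hNB heN
  -- a prime over `⊥`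
  have hcomap : (Ideal.span {algebraMap B₀ (Localization.AtPrime 𝔔₁) g}).comap
      (algebraMap (Localization.AtPrime 𝔭) (Localization.AtPrime 𝔔₁)) = ⊥ := by
    rw [eq_bot_iff]
    intro a ha
    rw [Ideal.mem_comap] at ha
    rw [Ideal.mem_bot]
    apply hinj
    rw [map_zero, IsScalarTower.algebraMap_apply (Localization.AtPrime 𝔭) (Localization.AtPrime 𝔔₁)
      (Localization.AtPrime 𝔔₁ ⧸ Ideal.span {algebraMap B₀ (Localization.AtPrime 𝔔₁) g}),
      Ideal.Quotient.algebraMap_eq, Ideal.Quotient.eq_zero_iff_mem]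
    exact ha
  have hbot : (⊥ : Ideal (Localization.AtPrime 𝔭)) ∈
      ((Ideal.span {algebraMap B₀ (Localization.AtPrime 𝔔₁) g}).comap
        (algebraMap (Localization.AtPrime 𝔭) (Localization.AtPrime 𝔔₁))).minimalPrimes := by
    rw [hcomap]
    exact ⟨⟨Ideal.isPrime_bot, le_rfl⟩, fun y _ _ => bot_le⟩
  obtain ⟨p', hp'prime, hp'le, hp'comap⟩ := Ideal.exists_comap_eq_of_mem_minimalPrimes
    (algebraMap (Localization.AtPrime 𝔭) (Localization.AtPrime 𝔔₁)) ⊥ hbot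
  refine ⟨p'.comap (algebraMap B₀ (Localization.AtPrime 𝔔₁)), Ideal.comap_isPrime _ _, ?_, ?_, ?_⟩
  · have h1 : p' ≤ maximalIdeal (Localization.AtPrime 𝔔₁) :=
      IsLocalRing.le_maximalIdeal hp'prime.ne_top
    have h2 := Ideal.comap_mono (f := algebraMap B₀ (Localization.AtPrime 𝔔₁)) h1
    have h3 : (maximalIdeal (Localization.AtPrime 𝔔₁)).comap
        (algebraMap B₀ (Localization.AtPrime 𝔔₁)) = 𝔔₁ :=
      Localization.AtPrime.under_maximalIdeal
    rw [h3] at h2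
    exact h2
  · rw [Ideal.mem_comap]
    exact hp'le (Ideal.mem_span_singleton_self _)
  · rw [Ideal.comap_comap, hcomp, ← Ideal.comap_comap, hp'comap]
    exact Ideal.comap_bot_of_injective _ hinjA

theorem liesOver_map_mk' {A B : Type u} [CommRing A] [CommRing B] [Algebra A B]
    (𝔭 : Ideal A) (q P : Ideal B) [hql : q.LiesOver 𝔭] (hPq : P ≤ q) :
    (q.map (Ideal.Quotient.mk P)).LiesOver (𝔭.map (Ideal.Quotient.mk (P.under A))) := by
  have h0 : P.under A ≤ 𝔭 := by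
    rw [Ideal.over_def q 𝔭]
    exact Ideal.comap_mono hPq
  constructor
  ext a
  obtain ⟨a, rfl⟩ := Ideal.Quotient.mk_surjective a
  change _ ↔ algebraMap (A ⧸ P.under A) (B ⧸ P) (Ideal.Quotient.mk (P.under A) a) ∈
    q.map (Ideal.Quotient.mk P)
  rw [Ideal.Quotient.algebraMap_mk_of_liesOver]
  have h1 : ∀ b : B, Ideal.Quotient.mk P b ∈ q.map (Ideal.Quotient.mk P) ↔ b ∈ q := by
    intro b
    conv_rhs => rw [← DimFT2.comap_map_mk' P q hPq]
    rfl
  have h2 : ∀ a : A, Ideal.Quotient.mk (P.under A) a ∈ 𝔭.map (Ideal.Quotient.mk (P.under A)) ↔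
      a ∈ 𝔭 := by
    intro a
    conv_rhs => rw [← DimFT2.comap_map_mk' (P.under A) 𝔭 h0]
    rfl
  rw [h1, h2, Ideal.mem_of_liesOver q 𝔭]

/-- chart version -/
theorem horiz_chart {A₀ B₀ : Type u} [CommRing A₀] [CommRing B₀] [Algebra A₀ B₀]
    [Algebra.FiniteType A₀ B₀]
    (𝔑 : Ideal B₀) [𝔑.IsPrime] (𝔫 : Ideal A₀) [𝔫.IsPrime] [𝔑.LiesOver 𝔫]
    (𝔭 : Ideal A₀) [𝔭.IsPrime] (g : B₀) (𝔔₁ : Ideal B₀) [𝔔₁.IsPrime] [𝔔₁.LiesOver 𝔭]
    (h𝔑 : 𝔑 ≤ 𝔔₁)
    (hmin : 𝔔₁ ∈ (𝔭.map (algebraMap A₀ B₀) ⊔ Ideal.span {g}).minimalPrimes)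
    (e N : ℕ) (he : Algebra.trdeg (A₀ ⧸ 𝔭) (B₀ ⧸ 𝔔₁) = e)
    (hN : Algebra.trdeg (A₀ ⧸ 𝔫) (B₀ ⧸ 𝔑) = N) (heN : e + 1 ≤ N) :
    ∃ 𝔔 : Ideal B₀, 𝔔.IsPrime ∧ 𝔔 ≤ 𝔔₁ ∧ g ∈ 𝔔 ∧ 𝔔.comap (algebraMap A₀ B₀) = 𝔫 := by
  obtain rfl : 𝔫 = 𝔑.under A₀ := Ideal.over_def 𝔑 𝔫
  have h0 : 𝔑.under A₀ ≤ 𝔭 := by
    rw [Ideal.over_def 𝔔₁ 𝔭]
    exact Ideal.comap_mono h𝔑
  haveI : IsDomain (A₀ ⧸ 𝔑.under A₀) := Ideal.Quotient.isDomain _
  haveI : IsDomain (B₀ ⧸ 𝔑) := Ideal.Quotient.isDomain _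
  haveI : Algebra.FiniteType A₀ (B₀ ⧸ 𝔑) :=
    Algebra.FiniteType.of_surjective (Ideal.Quotient.mkₐ A₀ 𝔑) (Ideal.Quotient.mkₐ_surjective A₀ 𝔑)
  haveI : Algebra.FiniteType (A₀ ⧸ 𝔑.under A₀) (B₀ ⧸ 𝔑) :=
    Algebra.FiniteType.of_restrictScalars_finiteType A₀ (A₀ ⧸ 𝔑.under A₀) (B₀ ⧸ 𝔑)
  haveI hp1 := DimFT2.isPrime_map_mk 𝔑 𝔔₁ h𝔑
  haveI hp2 := DimFT2.isPrime_map_mk (𝔑.under A₀) 𝔭 h0
  haveI hlo := liesOver_map_mk' 𝔭 𝔔₁ 𝔑 h𝔑
  have htr : Algebra.trdeg ((A₀ ⧸ 𝔑.under A₀) ⧸ 𝔭.map (Ideal.Quotient.mk (𝔑.under A₀)))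
      ((B₀ ⧸ 𝔑) ⧸ 𝔔₁.map (Ideal.Quotient.mk 𝔑)) = Algebra.trdeg (A₀ ⧸ 𝔭) (B₀ ⧸ 𝔔₁) := by
    haveI : Nontrivial ((A₀ ⧸ 𝔑.under A₀) ⧸ 𝔭.map (Ideal.Quotient.mk (𝔑.under A₀))) :=
      Ideal.Quotient.nontrivial_iff.mpr (Ideal.IsPrime.ne_top inferInstance)
    refine DimIneq1.trdeg_eq_of_ringEquiv (DoubleQuot.quotQuotEquivQuotOfLE h0)
      (DoubleQuot.quotQuotEquivQuotOfLE h𝔑) ?_
    apply Ideal.Quotient.ringHom_ext
    apply Ideal.Quotient.ringHom_ext
    ext a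
    rfl
  have hc : (algebraMap (A₀ ⧸ 𝔑.under A₀) (B₀ ⧸ 𝔑)).comp (Ideal.Quotient.mk (𝔑.under A₀)) =
      (Ideal.Quotient.mk 𝔑).comp (algebraMap A₀ B₀) := RingHom.ext fun a => rfl
  have hJmap : (𝔭.map (Ideal.Quotient.mk (𝔑.under A₀))).map
      (algebraMap (A₀ ⧸ 𝔑.under A₀) (B₀ ⧸ 𝔑)) ⊔ Ideal.span {Ideal.Quotient.mk 𝔑 g} =
      (𝔭.map (algebraMap A₀ B₀) ⊔ Ideal.span {g}).map (Ideal.Quotient.mk 𝔑) := by
    rw [Ideal.map_sup, Ideal.map_map, Ideal.map_map, Ideal.map_span, Set.image_singleton, hc]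
  have hminQ : 𝔔₁.map (Ideal.Quotient.mk 𝔑) ∈
      ((𝔭.map (Ideal.Quotient.mk (𝔑.under A₀))).map
        (algebraMap (A₀ ⧸ 𝔑.under A₀) (B₀ ⧸ 𝔑)) ⊔
        Ideal.span {Ideal.Quotient.mk 𝔑 g}).minimalPrimes := by
    rw [hJmap]
    refine ⟨⟨hp1, Ideal.map_mono hmin.1.2⟩, fun Pb hPb hle => ?_⟩
    obtain ⟨hPbp, hJPb⟩ := hPb
    haveI := hPbp
    have h1 : 𝔭.map (algebraMap A₀ B₀) ⊔ Ideal.span {g} ≤ Pb.comap (Ideal.Quotient.mk 𝔑) :=
      Ideal.map_le_iff_le_comap.mp hJPb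
    have h2 : Pb.comap (Ideal.Quotient.mk 𝔑) ≤ 𝔔₁ := by
      have := Ideal.comap_mono (f := Ideal.Quotient.mk 𝔑) hle
      rwa [DimFT2.comap_map_mk' 𝔑 𝔔₁ h𝔑] at this
    have h3 : 𝔔₁ ≤ Pb.comap (Ideal.Quotient.mk 𝔑) :=
      hmin.2 ⟨Ideal.comap_isPrime _ _, h1⟩ h2
    exact Ideal.map_le_iff_le_comap.mpr h3
  obtain ⟨Qb, hQbp, hQble, hgQb, hQbcomap⟩ := horiz_chart_dom (A₀ := A₀ ⧸ 𝔑.under A₀)
    (B₀ := B₀ ⧸ 𝔑) (𝔭.map (Ideal.Quotient.mk (𝔑.under A₀))) (Ideal.Quotient.mk 𝔑 g)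
    (𝔔₁.map (Ideal.Quotient.mk 𝔑)) hminQ e N (htr.trans he) hN heN
  refine ⟨Qb.comap (Ideal.Quotient.mk 𝔑), Ideal.comap_isPrime _ _, ?_, hgQb, ?_⟩
  · have := Ideal.comap_mono (f := Ideal.Quotient.mk 𝔑) hQble
    rwa [DimFT2.comap_map_mk' 𝔑 𝔔₁ h𝔑] at this
  · ext a
    rw [Ideal.mem_comap, Ideal.mem_comap]
    have h1 : Ideal.Quotient.mk 𝔑 (algebraMap A₀ B₀ a) =
        algebraMap (A₀ ⧸ 𝔑.under A₀) (B₀ ⧸ 𝔑) (Ideal.Quotient.mk _ a) := rfl
    rw [h1, ← Ideal.mem_comap, hQbcomap, Ideal.mem_bot, Ideal.Quotient.eq_zero_iff_mem]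

end Groth.Agent.Helper7.Vert
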