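import Mathlib
import Groth.Agent.Lib.Helper7.Vert.Ring
import Groth.Agent.Lib.Lead.SD1
import Groth.Agent.Lib.Helper4.Equi10
import Groth.Agent.Lib.Helper4.RadBir3
import Groth.Agent.Lib.Helper4.FibDim2

/-!
# A locally principal closed subscheme with empty generic fibre is vertical (scheme part of S1387)
-/

set_option linter.style.haveILetI false
set_option linter.unusedVariables false
set_option linter.unusedSectionVars false
set_option autoImplicit false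
set_option backward.isDefEq.respectTransparency.types false
set_option synthInstance.maxHeartbeats 400000
set_option maxHeartbeats 1600000

universe u

open CategoryTheory CategoryTheory.Limits AlgebraicGeometry TopologicalSpace
open Groth.Agent.Lib.Helper4.FibDim1 Groth.Agent.Lib.Helper4.FibDim2
open Groth.Agent.Lib.Helper4.DimIneq2 Groth.Agent.Lib.Helper4.Equi10
open Groth.Agent.Lib.Helper4.RadBir3

namespace Groth.Agent.Helper7.Vert

theorem closure_singleton_mem_irreducibleComponents {T : Type*} [TopologicalSpace T]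
    [QuasiSober T] (z : T) (hmax : ∀ w : T, w ⤳ z → w = z) :
    closure ({z} : Set T) ∈ irreducibleComponents T := by
  refine ⟨isIrreducible_singleton.closure, fun C' hC' hle => ?_⟩
  have hirr : IsIrreducible (closure C') := hC'.closure
  obtain ⟨w, hw⟩ := QuasiSober.sober hirr isClosed_closure
  have hz : z ∈ closure C' := subset_closure (hle (subset_closure (Set.mem_singleton z)))
  have hsp : w ⤳ z := hw.specializes hz
  have hwz := hmax w hsp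
  rw [hwz] at hw
  intro y hy
  have h1 : y ∈ closure C' := subset_closure hy
  rw [← hw.def] at h1
  exact h1

section Sch

variable {X S : Scheme.{u}} (f : X ⟶ S)

/-- zero locus of the ideal on an affine chart in terms of the support -/
theorem zeroLocus_ideal_eq (I : X.IdealSheafData) (U : X.affineOpens) :
    PrimeSpectrum.zeroLocus (I.ideal U : Set Γ(X, U)) = U.2.fromSpec ⁻¹' (I.support : Set X) := by
  rw [← U.2.fromSpec_preimage_zeroLocus]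
  ext p
  have hp : U.2.fromSpec p ∈ U.1 := by
    rw [← SetLike.mem_coe, ← U.2.range_fromSpec]; exact ⟨p, rfl⟩
  rw [Set.mem_preimage, Set.mem_preimage, SetLike.mem_coe, I.mem_support_iff_of_mem hp]

theorem mem_support_iff_mem_prime (Z : X.IdealSheafData) {U : X.Opens} (hU : IsAffineOpen U)
    (g : Γ(X, U)) (hg : Z.ideal ⟨U, hU⟩ = Ideal.span {g}) (z : X) (hz : z ∈ U) :
    z ∈ Z.support ↔ g ∈ (hU.primeIdealOf ⟨z, hz⟩).asIdeal := by
  have h3 := Set.ext_iff.mp (zeroLocus_ideal_eq Z ⟨U, hU⟩) (hU.primeIdealOf ⟨z, hz⟩)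
  have h4 : hU.fromSpec (hU.primeIdealOf ⟨z, hz⟩) = z := hU.fromSpec_primeIdealOf ⟨z, hz⟩
  have h2 : hU.primeIdealOf ⟨z, hz⟩ ∈
      PrimeSpectrum.zeroLocus (Z.ideal ⟨U, hU⟩ : Set Γ(X, U)) ↔ z ∈ Z.support := by
    refine h3.trans ?_
    show hU.fromSpec (hU.primeIdealOf ⟨z, hz⟩) ∈ (Z.support : Set X) ↔ z ∈ Z.support
    rw [h4]
    exact Iff.rfl
  rw [← h2, hg, PrimeSpectrum.zeroLocus_span, PrimeSpectrum.mem_zeroLocus,
    Set.singleton_subset_iff]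
  exact Iff.rfl

theorem ideal_basicOpen_eq_span (Z : X.IdealSheafData) {U₀ : X.Opens} (hU₀ : IsAffineOpen U₀)
    (g₀ : Γ(X, U₀)) (hg₀ : Z.ideal ⟨U₀, hU₀⟩ = Ideal.span {g₀}) (h : Γ(X, U₀)) :
    Z.ideal ⟨X.basicOpen h, hU₀.basicOpen h⟩ =
      Ideal.span {(X.presheaf.map (homOfLE (X.basicOpen_le h)).op).hom g₀} := by
  have h1 := Z.map_ideal_basicOpen ⟨U₀, hU₀⟩ h
  rw [hg₀, Ideal.map_span, Set.image_singleton] at h1
  exact h1.symm

theorem main_chart [IrreducibleSpace ↑S] [IrreducibleSpace ↑X] [IsDominant f]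
    [LocallyOfFiniteType f] (s : S)
    (hdim : topologicalKrullDim ↑(f.fiber s) ≤ topologicalKrullDim ↑(f.fiber (genericPoint ↑S)))
    (Z : X.IdealSheafData) (hη : ∀ x ∈ (Z.support : Set ↑X), f x ≠ genericPoint ↑S)
    {V : S.Opens} (hV : IsAffineOpen V) {U : X.Opens} (hU : IsAffineOpen U) (hUV : U ≤ f ⁻¹ᵁ V)
    (g : Γ(X, U)) (hZU : Z.ideal ⟨U, hU⟩ = Ideal.span {g})
    (x₀ : X) (hx₀ : x₀ ∈ f ⁻¹' {s}) (hxU : x₀ ∈ U) (hxZ : x₀ ∈ Z.support)
    (hcon : ∀ C ∈ irreducibleComponents ↑(f ⁻¹' {s}), (⟨x₀, hx₀⟩ : ↑(f ⁻¹' {s})) ∈ C →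
      ¬ Subtype.val '' C ⊆ (Z.support : Set ↑X)) : False := by
  classical
  have hfx : f x₀ = s := hx₀
  -- the generic point
  have hfξ : f (genericPoint X) = genericPoint S := by
    have h1 : IsGenericPoint (f (genericPoint X)) (closure (f '' (Set.univ : Set X))) :=
      (genericPoint_spec X).image f.continuous
    rw [Set.image_univ, f.denseRange.closure_range] at h1
    exact h1.eq (genericPoint_spec S)
  obtain ⟨N, hN⟩ : ∃ N : ℕ, N = tr f (genericPoint X) := ⟨_, rfl⟩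
  have hgen : ∀ z : X, f z = genericPoint S → tr f z ≤ N := by
    intro z hz
    by_cases hzξ : z = genericPoint X
    · rw [hzξ, hN]
    · have hsp : genericPoint X ⤳ z := genericPoint_specializes z
      have h1 := tr_lt_of_specializes f (genericPoint X) z hsp (Ne.symm hzξ) (hfξ.trans hz.symm)
      rw [hN]
      exact h1.le
  have hdimη : Order.krullDim {z : X // f z = genericPoint S} ≤ N :=
    krullDim_fibre_le f (genericPoint S) N hgen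
  have hspec : ∀ z : X, f z = s → tr f z ≤ N := by
    intro z hz
    have h1 := height_fib_nn f s z hz
    have h2 := Order.height_le_krullDim (⟨z, hz⟩ : {z' : X // f z' = s})
    rw [h1, ← topologicalKrullDim_fiber_eq f s] at h2
    have h3 := h2.trans (hdim.trans ((topologicalKrullDim_fiber_eq f _).le.trans hdimη))
    exact_mod_cast h3
  -- charts
  letI alg : Algebra Γ(S, V) Γ(X, U) := (f.appLE V U hUV).hom.toAlgebra
  haveI hft : Algebra.FiniteType Γ(S, V) Γ(X, U) :=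
    HasRingHomProperty.appLE (P := @LocallyOfFiniteType) f inferInstance ⟨V, hV⟩ ⟨U, hU⟩ hUV
  haveI hlo𝔓 := liesOver_chart f hV hU hUV x₀ hxU rfl
  have hg𝔓 : g ∈ (hU.primeIdealOf ⟨x₀, hxU⟩).asIdeal :=
    (mem_support_iff_mem_prime Z hU g hZU x₀ hxU).mp hxZ
  have hJ𝔓 : (hV.primeIdealOf ⟨f x₀, hUV hxU⟩).asIdeal.map (algebraMap Γ(S, V) Γ(X, U)) ⊔
      Ideal.span {g} ≤ (hU.primeIdealOf ⟨x₀, hxU⟩).asIdeal := by
    refine sup_le ?_ ((Ideal.span_singleton_le_iff_mem _).mpr hg𝔓)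
    rw [Ideal.map_le_iff_le_comap]
    exact (hlo𝔓.over).le
  obtain ⟨𝔔₁, h𝔔₁min, h𝔔₁le⟩ := Ideal.exists_minimalPrimes_le hJ𝔓
  haveI h𝔔₁p : 𝔔₁.IsPrime := h𝔔₁min.1.1
  obtain ⟨z₁, hz₁⟩ : ∃ z₁ : X, z₁ = hU.fromSpec ⟨𝔔₁, h𝔔₁p⟩ := ⟨_, rfl⟩
  have hz₁U : z₁ ∈ U := by
    rw [hz₁]
    exact Groth.Agent.Lead.SD.fromSpec_mem hU _
  have hprime₁ : hU.primeIdealOf ⟨z₁, hz₁U⟩ = ⟨𝔔₁, h𝔔₁p⟩ := by
    subst hz₁
    exact Groth.Agent.Lead.SD.primeIdealOf_fromSpec hU _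
  have hQ₁ : (hU.primeIdealOf ⟨z₁, hz₁U⟩).asIdeal = 𝔔₁ :=
    congrArg PrimeSpectrum.asIdeal hprime₁
  haveI hlo₁ := liesOver_chart f hV hU hUV z₁ hz₁U rfl
  have hP₁ : (hV.primeIdealOf ⟨f z₁, hUV hz₁U⟩).asIdeal =
      (hV.primeIdealOf ⟨f x₀, hUV hxU⟩).asIdeal := by
    apply le_antisymm
    · rw [hlo₁.over, hlo𝔓.over, hQ₁]
      exact Ideal.comap_mono h𝔔₁le
    · rw [hlo₁.over, hQ₁]
      have h1 : (hV.primeIdealOf ⟨f x₀, hUV hxU⟩).asIdeal.map (algebraMap Γ(S, V) Γ(X, U)) ≤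
          𝔔₁ := le_sup_left.trans h𝔔₁min.1.2
      exact Ideal.map_le_iff_le_comap.mp h1
  have hfz₁ : f z₁ = s := by
    have h1 : hV.primeIdealOf ⟨f z₁, hUV hz₁U⟩ = hV.primeIdealOf ⟨f x₀, hUV hxU⟩ :=
      PrimeSpectrum.ext hP₁
    have h2 := congrArg hV.fromSpec h1
    rw [hV.fromSpec_primeIdealOf, hV.fromSpec_primeIdealOf] at h2
    exact h2.trans hfx
  have hz₁x : z₁ ⤳ x₀ :=
    (specializes_iff_primeIdealOf_le hU ⟨z₁, hz₁U⟩ ⟨x₀, hxU⟩).mpr (by rw [hQ₁]; exact h𝔔₁le)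
  have hz₁Z : z₁ ∈ Z.support := by
    rw [mem_support_iff_mem_prime Z hU g hZU z₁ hz₁U, hQ₁]
    exact h𝔔₁min.1.2 (Ideal.mem_sup_right (Ideal.mem_span_singleton_self g))
  -- a maximal point of the fibre above `z₁`
  obtain ⟨z', hz'ge, hz'max⟩ := exists_isMax_ge_fib f s ⟨z₁, hfz₁⟩
  have hz'z₁ : z'.1 ⤳ z₁ := hz'ge
  have hmax' : ∀ w : X, f w = s → w ⤳ z'.1 → w = z'.1 := by
    intro w hw hsp
    have h1 : z' ≤ ⟨w, hw⟩ := hsp
    have h2 : z'.1 ⤳ w := hz'max h1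
    exact (hsp.antisymm h2).eq
  haveI hqs : QuasiSober ↥(f ⁻¹' {s}) := (f.fiberHomeo s).symm.isClosedEmbedding.quasiSober
  have hz's : z'.1 ∈ f ⁻¹' {s} := z'.2
  have hCmem : closure ({(⟨z'.1, hz's⟩ : ↥(f ⁻¹' {s}))} : Set ↥(f ⁻¹' {s})) ∈
      irreducibleComponents ↥(f ⁻¹' {s}) := by
    apply closure_singleton_mem_irreducibleComponents
    intro w hw
    have h1 : w.1 ⤳ z'.1 := hw.map continuous_subtype_val
    have h2 := hmax' w.1 w.2 h1
    exact Subtype.ext h2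
  have hxC : (⟨x₀, hx₀⟩ : ↥(f ⁻¹' {s})) ∈
      closure ({(⟨z'.1, hz's⟩ : ↥(f ⁻¹' {s}))} : Set ↥(f ⁻¹' {s})) := by
    have h1 : (⟨z'.1, hz's⟩ : ↥(f ⁻¹' {s})) ⤳ ⟨x₀, hx₀⟩ :=
      (subtype_specializes_iff _ _).mpr (hz'z₁.trans hz₁x)
    exact specializes_iff_mem_closure.mp h1
  have hnot := hcon _ hCmem hxC
  have hz'Z : z'.1 ∉ Z.support := by
    intro hmem
    apply hnot
    rintro _ ⟨c, hc, rfl⟩
    have h1 : (⟨z'.1, hz's⟩ : ↥(f ⁻¹' {s})) ⤳ c := specializes_iff_mem_closure.mpr hc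
    have h2 : z'.1 ⤳ c.1 := h1.map continuous_subtype_val
    exact h2.mem_closed Z.support.isClosed hmem
  have hne : z'.1 ≠ z₁ := by
    intro h
    apply hz'Z
    rw [h]
    exact hz₁Z
  have htrlt : tr f z₁ < tr f z'.1 :=
    tr_lt_of_specializes f z'.1 z₁ hz'z₁ hne (z'.2.trans hfz₁.symm)
  have htrle : tr f z'.1 ≤ N := hspec z'.1 z'.2
  have heN : tr f z₁ + 1 ≤ N := by omega
  -- the generic point in the chart
  have hξU : genericPoint X ∈ U := genericPoint_mem_of_mem U x₀ hxU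
  haveI hloξ := liesOver_chart f hV hU hUV (genericPoint X) hξU rfl
  have h𝔑le : (hU.primeIdealOf ⟨genericPoint X, hξU⟩).asIdeal ≤
      (hU.primeIdealOf ⟨z₁, hz₁U⟩).asIdeal :=
    Groth.Agent.Lib.Helper4.FibDim1.primeIdealOf_genericPoint_le hU hξU _
  have he := tr_chart f hV hU hUV z₁ hz₁U rfl
  have hNN := tr_chart f hV hU hUV (genericPoint X) hξU rfl
  have hmin₁ : (hU.primeIdealOf ⟨z₁, hz₁U⟩).asIdeal ∈
      ((hV.primeIdealOf ⟨f z₁, hUV hz₁U⟩).asIdeal.map (algebraMap Γ(S, V) Γ(X, U)) ⊔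
        Ideal.span {g}).minimalPrimes := by
    rw [hQ₁, hP₁]
    exact h𝔔₁min
  obtain ⟨𝔔, h𝔔p, h𝔔le, hg𝔔, h𝔔comap⟩ := horiz_chart
    (hU.primeIdealOf ⟨genericPoint X, hξU⟩).asIdeal
    (hV.primeIdealOf ⟨f (genericPoint X), hUV hξU⟩).asIdeal
    (hV.primeIdealOf ⟨f z₁, hUV hz₁U⟩).asIdeal g (hU.primeIdealOf ⟨z₁, hz₁U⟩).asIdeal
    h𝔑le hmin₁ (tr f z₁) N he (by rw [hN]; exact hNN) heN
  obtain ⟨w, hw⟩ : ∃ w : X, w = hU.fromSpec ⟨𝔔, h𝔔p⟩ := ⟨_, rfl⟩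
  have hwU : w ∈ U := by
    rw [hw]
    exact Groth.Agent.Lead.SD.fromSpec_mem hU _
  have hprimew : hU.primeIdealOf ⟨w, hwU⟩ = ⟨𝔔, h𝔔p⟩ := by
    subst hw
    exact Groth.Agent.Lead.SD.primeIdealOf_fromSpec hU _
  have hQw : (hU.primeIdealOf ⟨w, hwU⟩).asIdeal = 𝔔 := congrArg PrimeSpectrum.asIdeal hprimew
  haveI hlow := liesOver_chart f hV hU hUV w hwU rfl
  have hPw : (hV.primeIdealOf ⟨f w, hUV hwU⟩).asIdeal =
      (hV.primeIdealOf ⟨f (genericPoint X), hUV hξU⟩).asIdeal := by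
    rw [hlow.over, hQw]
    exact h𝔔comap
  have hfw : f w = genericPoint S := by
    have h1 : hV.primeIdealOf ⟨f w, hUV hwU⟩ =
        hV.primeIdealOf ⟨f (genericPoint X), hUV hξU⟩ := PrimeSpectrum.ext hPw
    have h2 := congrArg hV.fromSpec h1
    rw [hV.fromSpec_primeIdealOf, hV.fromSpec_primeIdealOf] at h2
    exact h2.trans hfξ
  have hwZ : w ∈ Z.support := by
    rw [mem_support_iff_mem_prime Z hU g hZU w hwU, hQw]
    exact hg𝔔
  exact hη w hwZ hfw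

theorem main [IrreducibleSpace ↑S] [IrreducibleSpace ↑X] [IsDominant f] [LocallyOfFiniteType f]
    (s : S)
    (hdim : topologicalKrullDim ↑(f.fiber s) ≤ topologicalKrullDim ↑(f.fiber (genericPoint ↑S)))
    (Z : X.IdealSheafData)
    (hZ : ∀ x : X, ∃ (U : X.Opens) (hU : IsAffineOpen U) (g : Γ(X, U)),
      x ∈ U ∧ Z.ideal ⟨U, hU⟩ = Ideal.span {g})
    (hη : ∀ x ∈ (Z.support : Set ↑X), f x ≠ genericPoint ↑S) :
    ∀ x : ↑(f ⁻¹' {s}), (x : ↑X) ∈ (Z.support : Set ↑X) →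
      ∃ C ∈ irreducibleComponents ↑(f ⁻¹' {s}), x ∈ C ∧
        Subtype.val '' C ⊆ (Z.support : Set ↑X) := by
  rintro ⟨x₀, hx₀⟩ hxZ
  by_contra hcon
  have hcon' : ∀ C ∈ irreducibleComponents ↑(f ⁻¹' {s}), (⟨x₀, hx₀⟩ : ↑(f ⁻¹' {s})) ∈ C →
      ¬ Subtype.val '' C ⊆ (Z.support : Set ↑X) :=
    fun C hC hxC hsub => hcon ⟨C, hC, hxC, hsub⟩
  obtain ⟨U₀, hU₀, g₀, hxU₀, hZU₀⟩ := hZ x₀
  obtain ⟨V, hV, hsV, -⟩ := exists_isAffineOpen_mem_and_subset (U := (⊤ : S.Opens))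
    (x := f x₀) trivial
  have hxW : x₀ ∈ U₀ ⊓ f ⁻¹ᵁ V := TopologicalSpace.Opens.mem_inf.mpr ⟨hxU₀, hsV⟩
  obtain ⟨h, hle, hxh⟩ := hU₀.exists_basicOpen_le (V := U₀ ⊓ f ⁻¹ᵁ V) ⟨x₀, hxW⟩ hxU₀
  exact main_chart f s hdim Z hη hV (hU₀.basicOpen h) (hle.trans inf_le_right)
    ((X.presheaf.map (homOfLE (X.basicOpen_le h)).op).hom g₀)
    (ideal_basicOpen_eq_span Z hU₀ g₀ hZU₀ h) x₀ hx₀ hxh hxZ hcon'

end Sch

end Groth.Agent.Helper7.Vert
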